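import Cfsg.Agent.FGS75.CCKer.Zass
import Cfsg.Agent.FGS75.ZTU.Main
import Cfsg.Agent.CharDeep.ZassAbelian
import Cfsg.Agent.Linear.PermIso
import Cfsg.Agent.S0338
import Cfsg.Agent.S0346
import Cfsg.Agent.S1230

/-!
In the non-solvable case the Sylow 2-subgroup is elementary abelian and the group is `PSL₂(2ⁿ)`.
-/

set_option autoImplicit false
set_option maxHeartbeats 1000000

namespace Cfsg.Agent.FGS75.CCKer

open TICent (mem_cent conj_comm conj_fix el_mem_sylow)

variable {G : Type*} [Group G] [Finite G] {S : Sylow 2 G} {z : G} (h : Dat S z)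
include h

theorem Dat.isSimple : IsSimpleGroup G := by
  classical
  letI : Fintype (G ⧸ nS S) := Fintype.ofFinite _
  refine Cfsg.Agent.S0338.result h.isZassenhaus ?_
  rw [← Nat.card_eq_fintype_card, h.card_points]
  exact h.even_cz.add_one

theorem Dat.cz_isPGroup : IsPGroup 2 (cz z) := by
  classical
  haveI := h.isSimple
  letI : Fintype (G ⧸ nS S) := Fintype.ofFinite _
  have h1 := Cfsg.Agent.S0346.result h.isZassenhaus
  rw [← Nat.card_eq_fintype_card, h.card_points, Nat.add_sub_cancel] at h1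
  obtain ⟨p, k, hp, hk, hpk⟩ := (isPrimePow_nat_iff _).mp h1
  have h2 : 2 ∣ p ^ k := hpk ▸ even_iff_two_dvd.mp h.even_cz
  obtain rfl : 2 = p := (Nat.prime_dvd_prime_iff_eq Nat.prime_two hp).mp
    (Nat.prime_two.dvd_of_dvd_pow h2)
  exact IsPGroup.of_card hpk.symm

theorem Dat.cz_eq_sylow : cz z = (S : Subgroup G) :=
  S.is_maximal' h.cz_isPGroup h.le_cz

theorem Dat.stab_one : MulAction.stabilizer G (QuotientGroup.mk 1 : G ⧸ nS S) = nS S := by
  ext x
  rw [MulAction.mem_stabilizer_iff]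
  exact fix_one

theorem Dat.isKernel : PermB.IsKernel (cz z) (QuotientGroup.mk 1 : G ⧸ nS S) :=
  ⟨fun _ hc => MulAction.mem_stabilizer_iff.mpr (fix_one.mpr (h.cz_le_nS hc)),
    fun _ hm _ hc => h.normalizes _ (h.stab_one.le hm) _ hc,
    fun _ _ hc hd => h.regular hc hd⟩

theorem Dat.stab_two {u : G} :
    MulAction.stabilizer G (QuotientGroup.mk 1 : G ⧸ nS S) ⊓
      MulAction.stabilizer G (QuotientGroup.mk u : G ⧸ nS S) = dd S u := by
  ext x
  rw [Subgroup.mem_inf, MulAction.mem_stabilizer_iff, MulAction.mem_stabilizer_iff, fix_one, fix_iff,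
    mem_dd]

theorem Dat.cz_comm_om {ω : G} (hω : ω ∈ h.om) {c : G} (hc : c ∈ cz z) : ω * c = c * ω := by
  by_cases h1 : ω = 1
  · rw [h1, one_mul, mul_one]
  have h2 := h.cz_eq hω.2 h1 hω.1
  exact (mem_cent.mp (h2.symm ▸ hc : c ∈ cz ω)).symm

theorem Dat.conj_om {m : G} (hm : m ∈ nS S) {ω : G} (hω : ω ∈ h.om) : m * ω * m⁻¹ ∈ h.om :=
  ⟨(Subgroup.mem_normalizer_iff.mp hm ω).mp hω.1, by rw [conj_mul, hω.2, mul_one, mul_inv_cancel]⟩

theorem Dat.om_eq_cz (hcomm : ∀ a ∈ cz z, ∀ b ∈ cz z, a * b = b * a) : h.om = cz z := by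
  classical
  obtain ⟨u, hu, huM⟩ := h.exists_outer
  have hne : (QuotientGroup.mk 1 : G ⧸ nS S) ≠ QuotientGroup.mk u := fun e =>
    huM (mk_one_iff.mp e.symm)
  have hz := PermB.zData_of_isZassenhausGroup h.isZassenhaus
  have hH2 : Nat.card (PermB.ZData.H2 (G := G) (QuotientGroup.mk 1 : G ⧸ nS S) (QuotientGroup.mk u)) =
      ni S := by
    rw [← h.card_dd huM, ← h.stab_two]
  have h1 := CharDeep.ZA.kernel_small h.isZassenhaus h.isKernel hne
    ⟨⟨fun a b => Subtype.ext (hcomm a a.2 b b.2)⟩⟩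
  obtain ⟨k, hk⟩ := CharDeep.ZA.card_H2_dvd hz h.isKernel hne
  rw [hH2, h.card_points] at h1 hk
  obtain ⟨c, hc⟩ := h.even_cz
  have hpos : 0 < Nat.card (cz z) := Nat.card_pos
  have h3 := h.ni_facts.2
  have hk1 : k = 1 := by
    rcases k with _ | _ | k
    · omega
    · rfl
    · exfalso
      have hle : ni S * (k + 1 + 1) ≤ ni S * 2 := by omega
      have hk0 : k = 0 := by
        have := Nat.le_of_mul_le_mul_left hle (by omega)
        omega
      subst hk0
      omega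
  subst hk1
  refine Subgroup.eq_of_le_of_card_ge (fun s hs => h.le_cz hs.1) ?_
  rw [h.card_om]
  omega

theorem Dat.psl2 (hcomm : ∀ a ∈ cz z, ∀ b ∈ cz z, a * b = b * a) : ∃ n : ℕ, 2 ≤ n ∧
    Nonempty (G ≃* Matrix.ProjectiveSpecialLinearGroup (Fin 2) (GaloisField 2 n)) := by
  classical
  haveI : Fact (Nat.Prime 2) := ⟨Nat.prime_two⟩
  have hS : (S : Subgroup G) = h.om := h.cz_eq_sylow.symm.trans (h.om_eq_cz hcomm).symm
  have hcardS : Nat.card (S : Subgroup G) = ni S + 1 := by rw [hS, h.card_om]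
  have h3 := h.ni_facts.2
  have hnc : ¬ IsCyclic (S : Subgroup G) := by
    intro hc
    obtain ⟨⟨g, hg⟩, hgen⟩ := hc.exists_ofOrder_eq_natCard
    rw [Subgroup.orderOf_mk, hcardS] at hgen
    have hg2 : g ∈ h.om := hS ▸ hg
    have : orderOf g ≤ 2 := orderOf_le_of_pow_eq_one (by norm_num) (by rw [pow_two]; exact hg2.2)
    omega
  have hnn : ¬ (S : Subgroup G).Normal := fun hn =>
    h.ne_top (Subgroup.normalizer_eq_top_iff.mpr hn)
  obtain ⟨F, iF, iFt, hF, ⟨e⟩⟩ := Cfsg.Agent.S1230.result S hnc hnn (fun t ht => by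
    obtain ⟨g, hg⟩ := h.exists_conj_z ht
    have hmem : ∀ c ∈ Subgroup.centralizer ({t} : Set G), g⁻¹ * c * g ∈ h.om := by
      intro c hc
      rw [(h.om_eq_cz hcomm)]
      refine mem_cent.mpr ?_
      have h1 := conj_comm g⁻¹ (show c * (g * z * g⁻¹) = (g * z * g⁻¹) * c by
        rw [hg]; exact mem_cent.mp hc)
      rwa [show g⁻¹ * c * g⁻¹⁻¹ = g⁻¹ * c * g by group,
        show g⁻¹ * (g * z * g⁻¹) * g⁻¹⁻¹ = z by group] at h1
    refine ⟨⟨⟨fun a b => Subtype.ext ?_⟩⟩, fun c hc => ?_⟩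
    · have h1 := hcomm _ ((h.om_eq_cz hcomm) ▸ hmem a a.2) _ ((h.om_eq_cz hcomm) ▸ hmem b b.2)
      have h2 := conj_comm g h1
      rwa [show g * (g⁻¹ * (a : G) * g) * g⁻¹ = a by group,
        show g * (g⁻¹ * (b : G) * g) * g⁻¹ = b by group] at h2
    · calc c ^ 2 = g * ((g⁻¹ * c * g) * (g⁻¹ * c * g)) * g⁻¹ := by rw [pow_two]; group
        _ = 1 := by rw [(hmem c hc).2, mul_one, mul_inv_cancel])
  obtain ⟨a, ha⟩ := IsPGroup.iff_card.mp S.isPGroup'
  have ha2 : 2 ≤ a := by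
    rcases a with _ | _ | a
    · rw [hcardS] at ha; simp at ha; omega
    · rw [hcardS] at ha; simp at ha; omega
    · omega
  letI : Fintype (GaloisField 2 a) := Fintype.ofFinite _
  have hcard : Fintype.card F = Fintype.card (GaloisField 2 a) := by
    rw [hF, ← Nat.card_eq_fintype_card (α := GaloisField 2 a), GaloisField.card 2 a (by omega), ← ha]
  obtain ⟨e2⟩ := Linear.psl_congr (FiniteField.ringEquivOfCardEq hcard) (Fin 2)
  exact ⟨a, ha2, ⟨e.trans e2⟩⟩

/-- A group with such data is `SL₂(2ⁿ)` or a Suzuki group. -/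
theorem Dat.classify : (∃ (K : Type) (_ : Field K) (_ : Fintype K),
    (∃ n : ℕ, 2 ≤ n ∧ Fintype.card K = 2 ^ n) ∧
      Nonempty (G ≃* Matrix.SpecialLinearGroup (Fin 2) K)) ∨ Cfsg.Lie.IsoSuzuki G := by
  classical
  haveI := h.isSimple
  by_cases hcomm : ∀ a ∈ cz z, ∀ b ∈ cz z, a * b = b * a
  · left
    haveI : Fact (Nat.Prime 2) := ⟨Nat.prime_two⟩
    obtain ⟨n, hn, ⟨e⟩⟩ := h.psl2 hcomm
    letI : Fintype (GaloisField 2 n) := Fintype.ofFinite _
    refine ⟨GaloisField 2 n, inferInstance, inferInstance, ⟨n, hn, ?_⟩, ⟨e.trans ?_⟩⟩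
    · rw [← Nat.card_eq_fintype_card, GaloisField.card 2 n (by omega)]
    have hc : Subgroup.center (Matrix.SpecialLinearGroup (Fin 2) (GaloisField 2 n)) = ⊥ := by
      rw [eq_bot_iff]
      intro A hA
      obtain ⟨r, hr, hrA⟩ := Matrix.SpecialLinearGroup.mem_center_iff.1 hA
      rw [Subgroup.mem_bot]
      have hr1 : r = 1 := by
        rw [Fintype.card_fin] at hr
        have h2 : (r + 1) ^ 2 = 0 := by
          rw [CharTwo.add_sq, hr, one_pow, CharTwo.add_self_eq_zero]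
        rw [eq_neg_of_add_eq_zero_left (eq_zero_of_pow_eq_zero h2), CharTwo.neg_eq]
      apply Subtype.ext
      rw [← hrA, hr1]
      simp
    exact (QuotientGroup.quotientMulEquivOfEq hc).trans QuotientGroup.quotientBot
  · right
    push Not at hcomm
    obtain ⟨a, ha, b, hb, hab⟩ := hcomm
    obtain ⟨u, hu, huM⟩ := h.exists_outer
    exact ZTU.isoSuzuki_of_zassenhaus h.isZassenhaus
      (fun e => huM (mk_one_iff.mp e.symm) : (QuotientGroup.mk 1 : G ⧸ nS S) ≠ QuotientGroup.mk u)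
      (cz z) h.isKernel.le h.isKernel.conj h.isKernel.reg h.cz_isPGroup ⟨a, ha, b, hb, hab⟩

end Cfsg.Agent.FGS75.CCKer
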