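import Cfsg.Agent.FGS75.TICent.Basic
import Cfsg.Agent.FGS75.SelfNorm.Reverse
import Cfsg.Prelude.Def_Involutions
import Cfsg.Agent.S0205
import Cfsg.Agent.S0215
import Cfsg.Agent.S1225

/-!
A Sylow 2-normalizer with a nilpotent CC-kernel that is a TI-subgroup is strongly embedded.
-/

set_option autoImplicit false
set_option maxHeartbeats 1000000

namespace Cfsg.Agent.FGS75.CCKer

open FitRank (El)
open TICent (mem_cent conj_comm conj_fix el_mem_sylow comm_of_el)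

variable {G : Type*} [Group G]

/-- The normalizer of `S`. -/
abbrev nS (S : Sylow 2 G) : Subgroup G := Subgroup.normalizer ((S : Subgroup G) : Set G)

/-- The centralizer of `z`. -/
abbrev cz (z : G) : Subgroup G := Subgroup.centralizer ({z} : Set G)

variable [Finite G]

/-- A subgroup containing the centralizers of its non-identity elements is a Hall subgroup. -/
theorem coprime_of_cc {K : Subgroup G} (hcc : ∀ x ∈ K, x ≠ 1 → cz x ≤ K) :
    (Nat.card K).Coprime K.index := by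
  rw [Nat.coprime_iff_gcd_eq_one]
  by_contra h1
  obtain ⟨p, hp, hpd⟩ := Nat.exists_prime_and_dvd h1
  haveI : Fact p.Prime := ⟨hp⟩
  obtain ⟨⟨x, hxK⟩, hx⟩ := exists_prime_orderOf_dvd_card' p (hpd.trans (Nat.gcd_dvd_left _ _))
  rw [Subgroup.orderOf_mk] at hx
  have hxp : IsPGroup p (Subgroup.zpowers x) := IsPGroup.of_card (n := 1)
    (by rw [Nat.card_zpowers, hx, pow_one])
  obtain ⟨Q, hQ⟩ := hxp.exists_le_sylow
  have hxQ : x ∈ (Q : Subgroup G) := hQ (Subgroup.mem_zpowers x)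
  have hx1 : x ≠ 1 := fun e => hp.one_lt.ne (by rw [← hx, e, orderOf_one])
  haveI : Nontrivial (Q : Subgroup G) := ⟨⟨⟨x, hxQ⟩, 1, fun e => hx1 (congrArg Subtype.val e)⟩⟩
  haveI := Q.isPGroup'.center_nontrivial
  obtain ⟨⟨⟨c, hcQ⟩, hc⟩, hc1⟩ := exists_ne (1 : Subgroup.center (Q : Subgroup G))
  have hcomm : ∀ s ∈ (Q : Subgroup G), s * c = c * s := fun s hs =>
    congrArg Subtype.val (Subgroup.mem_center_iff.mp hc ⟨s, hs⟩)
  have hcK : c ∈ K := hcc x hxK hx1 (mem_cent.mpr (hcomm x hxQ).symm)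
  have hc1' : c ≠ 1 := fun e => hc1 (Subtype.ext (Subtype.ext e))
  have hQK : (Q : Subgroup G) ≤ K := fun s hs => hcc c hcK hc1' (mem_cent.mpr (hcomm s hs))
  exact Q.not_dvd_index ((hpd.trans (Nat.gcd_dvd_right _ _)).trans
    (Subgroup.index_dvd_of_le hQK))

/-- `C(z)` is a nilpotent CC-subgroup normal in `N(S)`, TI, with normalizer `N(S)`. -/
structure Dat (S : Sylow 2 G) (z : G) : Prop where
  ns : ¬ Group.IsSolvable G
  rad : ∀ N : Subgroup G, N.Normal → Group.IsSolvable N → N = ⊥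
  zS : z ∈ (S : Subgroup G)
  z1 : z ≠ 1
  z2 : z * z = 1
  zc : ∀ s ∈ (S : Subgroup G), s * z = z * s
  sol : Group.IsSolvable (nS S)
  nil : Group.IsNilpotent (cz z)
  cz_le_nS : cz z ≤ nS S
  normalizes : ∀ m ∈ nS S, ∀ c ∈ cz z, m * c * m⁻¹ ∈ cz z
  cc : ∀ x ∈ cz z, x ≠ 1 → cz x ≤ cz z
  tik : ∀ g x : G, x ∈ cz z → x ≠ 1 → g * x * g⁻¹ ∈ cz z → g ∈ nS S

variable {S : Sylow 2 G} {z : G} (h : Dat S z)
include h

theorem Dat.orderOf_z : orderOf z = 2 := orderOf_eq_prime (by rw [pow_two, h.z2]) h.z1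

theorem Dat.le_cz : (S : Subgroup G) ≤ cz z := fun s hs => mem_cent.mpr (h.zc s hs)

theorem Dat.ti {g y : G} (hy : y ∈ (S : Subgroup G)) (hy1 : y ≠ 1)
    (hgy : g * y * g⁻¹ ∈ (S : Subgroup G)) : g ∈ nS S :=
  h.tik g y (h.le_cz hy) hy1 (h.le_cz hgy)

theorem Dat.ne_top : nS S ≠ ⊤ := by
  intro htop
  haveI := h.sol
  exact h.ns (Group.isSolvable_of_surjective
    (f := ((MulEquiv.subgroupCongr htop).trans Subgroup.topEquiv).toMonoidHom)
    (((MulEquiv.subgroupCongr htop).trans Subgroup.topEquiv).surjective))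

theorem Dat.two_mem {t : G} (ht : t * t = 1) (htM : t ∈ nS S) : t ∈ (S : Subgroup G) :=
  SelfNorm.mem_sylow_of_mem_normalizer (k := 1) (by rw [pow_one, pow_two, ht]) htM

theorem Dat.stronglyEmbedded : Cfsg.IsStronglyEmbedded (nS S) := by
  haveI : Fact (Nat.Prime 2) := ⟨Nat.prime_two⟩
  refine ⟨h.ne_top, even_iff_two_dvd.mpr (h.orderOf_z ▸ Subgroup.orderOf_dvd_natCard (nS S)
    (Subgroup.le_normalizer h.zS)), fun g hg => ?_⟩
  rw [← Nat.not_even_iff_odd]
  intro heven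
  obtain ⟨⟨t, htM, ⟨t', ht'M, ht'⟩⟩, ht⟩ := exists_prime_orderOf_dvd_card' 2 (even_iff_two_dvd.mp heven)
  replace ht : orderOf t = 2 := (Subgroup.orderOf_coe _).trans ht
  have ht2 : t * t = 1 := by rw [← pow_two, ← ht, pow_orderOf_eq_one]
  have e : g * t' * g⁻¹ = t := ht'
  have ht'2 : t' * t' = 1 := by
    apply (MulAut.conj g).injective
    rw [map_mul, map_one]
    show g * t' * g⁻¹ * (g * t' * g⁻¹) = 1
    rw [e, ht2]
  refine hg (h.ti (h.two_mem ht'2 ht'M) ?_ (e ▸ h.two_mem ht2 htM))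
  intro e'
  rw [e', mul_one, mul_inv_cancel] at e
  rw [← e, orderOf_one] at ht
  omega

theorem Dat.conj_trans {s t : G} (hs : orderOf s = 2) (hsS : s ∈ (S : Subgroup G))
    (ht : orderOf t = 2) (htS : t ∈ (S : Subgroup G)) {u : G} (hu : orderOf u = 2)
    (huM : u ∉ nS S) :
    ∃ d ∈ (nS S ⊓ (nS S).map (MulAut.conj u).toMonoidHom), d * s * d⁻¹ = t :=
  (Cfsg.Agent.S1225.result (nS S) h.stronglyEmbedded u hu huM s t hs
    (Subgroup.le_normalizer hsS) ht (Subgroup.le_normalizer htS)).1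

theorem Dat.exists_outer : ∃ u : G, orderOf u = 2 ∧ u ∉ nS S := by
  obtain ⟨g, hg⟩ : ∃ g, g ∉ nS S := by
    by_contra hc
    push Not at hc
    exact h.ne_top (eq_top_iff.mpr fun g _ => hc g)
  refine ⟨g * z * g⁻¹, ?_, fun hM => hg (h.ti h.zS h.z1 (h.two_mem ?_ hM))⟩
  · rw [← h.orderOf_z]
    exact orderOf_injective (MulAut.conj g).toMonoidHom (MulAut.conj g).injective z
  · rw [conj_mul, h.z2, mul_one, mul_inv_cancel]

theorem Dat.involutions_conj {a b : G} (ha : orderOf a = 2) (hb : orderOf b = 2) : IsConj a b := by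
  obtain ⟨u, hu, huM⟩ := h.exists_outer
  exact (Cfsg.Agent.S1225.result (nS S) h.stronglyEmbedded u hu huM z z h.orderOf_z
    (Subgroup.le_normalizer h.zS) h.orderOf_z (Subgroup.le_normalizer h.zS)).2 a b ha hb

theorem Dat.cz_eq {t : G} (ht : t * t = 1) (ht1 : t ≠ 1) (htS : t ∈ (S : Subgroup G)) :
    cz t = cz z := by
  obtain ⟨u, hu, huM⟩ := h.exists_outer
  obtain ⟨d, hd, rfl⟩ := h.conj_trans h.orderOf_z h.zS
    (orderOf_eq_prime (by rw [pow_two, ht]) ht1) htS hu huM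
  refine le_antisymm (h.cc _ (h.le_cz htS) ht1) fun c hc => mem_cent.mpr ?_
  have h1 := conj_comm d (mem_cent.mp (h.normalizes d⁻¹ (inv_mem hd.1) c hc))
  rwa [show d * (d⁻¹ * c * d⁻¹⁻¹) * d⁻¹ = c by group] at h1

/-- Every involution of `S` is central in `S`. -/
theorem Dat.zc_of_involution {t : G} (ht : t * t = 1) (ht1 : t ≠ 1) (htS : t ∈ (S : Subgroup G))
    {s : G} (hs : s ∈ (S : Subgroup G)) : s * t = t * s :=
  mem_cent.mp ((h.cz_eq ht ht1 htS).symm ▸ h.le_cz hs : s ∈ cz t)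

theorem Dat.exists_two_involutions : ∃ t ∈ (S : Subgroup G), orderOf t = 2 ∧ t ≠ z := by
  by_contra hc
  push Not at hc
  obtain ⟨N, hNn, hNodd, hN⟩ := Cfsg.Agent.S0215.result S z h.orderOf_z h.zS fun g hg => hc _ hg (by
    rw [← h.orderOf_z]
    exact orderOf_injective (MulAut.conj g).toMonoidHom (MulAut.conj g).injective z)
  have hN1 : N = ⊥ := h.rad N hNn (Cfsg.Agent.S0205.result hNodd)
  have htop : cz z = ⊤ := eq_top_iff.mpr fun g _ => mem_cent.mpr (by
    have h1 := hN g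
    rw [hN1, Subgroup.mem_bot, mul_inv_eq_one, mul_inv_eq_iff_eq_mul] at h1
    exact h1.symm)
  exact h.ne_top (eq_top_iff.mpr (htop ▸ h.cz_le_nS))

theorem Dat.coprime_index : (Nat.card (cz z)).Coprime (cz z).index := coprime_of_cc h.cc

theorem Dat.cent_le {y : G} (hy : y * z = z * y) (hy1 : y ≠ 1) : cz y ≤ cz z :=
  h.cc y (mem_cent.mpr hy) hy1

/-- `N(S)` meets no other conjugate of `C(z)`. -/
theorem Dat.inter_eq_one {g x : G} (hg : g ∉ nS S) (hx : x ∈ nS S)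
    (hxc : x * (g * z * g⁻¹) = (g * z * g⁻¹) * x) : x = 1 := by
  by_contra hx1
  have ho : orderOf x ≠ 1 := fun e => hx1 (orderOf_eq_one_iff.mp e)
  obtain ⟨p, hp, hpd⟩ := Nat.exists_prime_and_dvd ho
  haveI : Fact p.Prime := ⟨hp⟩
  set y := x ^ (orderOf x / p) with hy
  have hyo : orderOf y = p := orderOf_pow_orderOf_div (orderOf_pos x).ne' hpd
  have hyc : y * (g * z * g⁻¹) = (g * z * g⁻¹) * y :=
    (Commute.pow_left (show Commute x (g * z * g⁻¹) from hxc) _).eq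
  have hyM : y ∈ nS S := pow_mem hx _
  have hy1 : y ≠ 1 := fun e => hp.one_lt.ne (by rw [← hyo, e, orderOf_one])
  have hy' : (g⁻¹ * y * g) * z = z * (g⁻¹ * y * g) := by
    have e := conj_comm g⁻¹ hyc
    rwa [show g⁻¹ * (g * z * g⁻¹) * g⁻¹⁻¹ = z by group,
      show g⁻¹ * y * g⁻¹⁻¹ = g⁻¹ * y * g by group] at e
  have hpH : p ∣ Nat.card (cz z) := by
    rw [← hyo, ← show orderOf (g⁻¹ * y * g) = orderOf y by
      simpa using orderOf_injective (MulAut.conj g⁻¹).toMonoidHom (MulAut.conj g⁻¹).injective y]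
    exact Subgroup.orderOf_dvd_natCard _ (mem_cent.mpr hy')
  have hnor : ((cz z).subgroupOf (nS S)).Normal := by
    refine (Subgroup.normal_subgroupOf_iff_le_normalizer h.cz_le_nS).mpr fun m hm => ?_
    exact SelfNorm.mem_normalizer_of_conj fun c hc => h.normalizes m hm c hc
  haveI := hnor
  have h1 : (⟨y, hyM⟩ : nS S) ^ ((cz z).subgroupOf (nS S)).index ∈ (cz z).subgroupOf (nS S) :=
    Subgroup.pow_index_mem _ _
  have hd : ((cz z).subgroupOf (nS S)).index ∣ (cz z).index :=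
    ⟨(nS S).index, (Subgroup.relIndex_mul_index h.cz_le_nS).symm⟩
  have hcop : ((cz z).subgroupOf (nS S)).index.Coprime p :=
    ((h.coprime_index.coprime_dvd_right hd).coprime_dvd_left hpH).symm
  have hyH : y ∈ cz z := by
    obtain ⟨k, hk⟩ := exists_pow_eq_self_of_coprime (x := y) (n := ((cz z).subgroupOf (nS S)).index)
      (by rw [hyo]; exact hcop)
    rw [← hk]
    exact pow_mem h1 k
  refine hg (h.tik g _ (mem_cent.mpr hy') (fun e => hy1 ?_) ?_)
  · calc y = g * (g⁻¹ * y * g) * g⁻¹ := by group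
      _ = 1 := by rw [e, mul_one, mul_inv_cancel]
  · rw [show g * (g⁻¹ * y * g) * g⁻¹ = y by group]
    exact hyH

end Cfsg.Agent.FGS75.CCKer
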