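import Cfsg.Agent.FGS75.CCKer.Final
import Cfsg.Agent.CharInd.Frobenius
import Cfsg.Agent.Solvable.FixedPointFree
import Cfsg.Agent.Transfer.Frobenius
import Cfsg.Agent.Signalizer.Functor

/-!
A maximal solvable subgroup over a Sylow 2-normalizer with a TI-kernel gives the data of `CCKer`.
-/

set_option autoImplicit false
set_option maxHeartbeats 1000000

namespace Cfsg.Agent.FGS75.CCKer

open scoped Pointwise
open FitRank (El)
open TICent (mem_cent conj_comm conj_fix el_mem_sylow comm_of_el)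

variable {G : Type*} [Group G]

/-- A maximal solvable subgroup with a fixed-point-free TI-kernel. -/
structure Sys (M K : Subgroup G) : Prop where
  msol : Group.IsSolvable M
  mmax : ∀ M' : Subgroup G, M < M' → ¬ Group.IsSolvable M'
  le : K ≤ M
  nor : M ≤ Subgroup.normalizer (K : Set G)
  fpf : ∀ a ∈ M, a ∉ K → ∀ x ∈ K, x * a = a * x → x = 1
  ti : ∀ g x : G, g ∉ M → x ∈ K → g * x * g⁻¹ ∈ K → x = 1
  ne : K ≠ ⊥

theorem sys_of_hyp {M K : Subgroup G}
    (hM : Group.IsSolvable M ∧ ∀ M' : Subgroup G, M < M' → ¬ Group.IsSolvable M')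
    (hle : K ≤ M) (hnor : M ≤ Subgroup.normalizer (K : Set G))
    (hfpf : ∀ a ∈ M, a ∉ K → ∀ x ∈ K, x * a = a * x → x = 1)
    (hti : ∀ g : G, g ∉ M → K ⊓ (MulAut.conj g • K) = ⊥) (hne : K ≠ ⊥) : Sys M K := by
  refine ⟨hM.1, hM.2, hle, hnor, hfpf, fun g x hg hx hgx => ?_, hne⟩
  have h1 : g * x * g⁻¹ ∈ K ⊓ (MulAut.conj g • K) :=
    ⟨hgx, by
      have := Subgroup.smul_mem_pointwise_smul x (MulAut.conj g) K hx
      exact this⟩
  rw [hti g hg, Subgroup.mem_bot] at h1
  exact conj_eq_one_iff.mp h1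

variable [Finite G] {M K : Subgroup G} (h : Sys M K)
include h

theorem Sys.cent {x : G} (hx : x ∈ K) (hx1 : x ≠ 1) {a : G} (ha : a * x = x * a) : a ∈ K := by
  have haM : a ∈ M := by
    by_contra hn
    exact hx1 (h.ti a x hn hx (by rw [conj_fix ha]; exact hx))
  by_contra hn
  exact hx1 (h.fpf a haM hn x hx ha.symm)

theorem Sys.cc : ∀ x ∈ K, x ≠ 1 → cz x ≤ K := fun _ hx hx1 _ ha => h.cent hx hx1 (mem_cent.mp ha)

theorem Sys.mem_of_dvd {y : G} (hy : y ∈ M) (ho : orderOf y ∣ Nat.card K) : y ∈ K := by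
  haveI : (K.subgroupOf M).Normal := (Subgroup.normal_subgroupOf_iff_le_normalizer h.le).mpr h.nor
  have h1 : (⟨y, hy⟩ : M) ^ (K.subgroupOf M).index ∈ K.subgroupOf M := Subgroup.pow_index_mem _ _
  have hcop : (K.subgroupOf M).index.Coprime (orderOf y) :=
    (((coprime_of_cc h.cc).coprime_dvd_right
      ⟨M.index, (Subgroup.relIndex_mul_index h.le).symm⟩).coprime_dvd_left ho).symm
  obtain ⟨k, hk⟩ := exists_pow_eq_self_of_coprime hcop
  rw [← hk]
  exact pow_mem h1 k

theorem Sys.radical (hns : ¬ Group.IsSolvable G) (N : Subgroup G) (hN : N.Normal)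
    (hNs : Group.IsSolvable N) : N = ⊥ := by
  haveI := hN
  haveI := hNs
  haveI := h.msol
  have hNM : N ≤ M := by
    by_contra hc
    refine h.mmax (N ⊔ M) (right_lt_sup.mpr hc) ?_
    have hn : M ≤ Subgroup.normalizer (N : Set G) :=
      fun g _ => by rw [Subgroup.normalizer_eq_top_iff.mpr hN]; exact Subgroup.mem_top g
    exact Signalizer.isSolvable_sup hn hNs h.msol
  by_cases hNK : N ⊓ K = ⊥
  · have hle : N ≤ K := by
      intro n hn
      obtain ⟨x, hx, hx1⟩ : ∃ x ∈ K, x ≠ 1 := by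
        by_contra hc
        push Not at hc
        exact h.ne ((Subgroup.eq_bot_iff_forall _).mpr hc)
      refine h.cent hx hx1 ?_
      have hc : n * x * n⁻¹ * x⁻¹ ∈ N ⊓ K := by
        refine Subgroup.mem_inf.mpr ⟨?_, mul_mem ((Subgroup.mem_normalizer_iff.mp (h.nor (hNM hn)) x).mp hx) (inv_mem hx)⟩
        show n * x * n⁻¹ * x⁻¹ ∈ N
        rw [show n * x * n⁻¹ * x⁻¹ = n * (x * n⁻¹ * x⁻¹) by group]
        exact mul_mem hn (hN.conj_mem _ (inv_mem hn) x)
      rw [hNK, Subgroup.mem_bot, mul_inv_eq_one, mul_inv_eq_iff_eq_mul] at hc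
      exact hc
    rwa [inf_eq_left.mpr hle] at hNK
  · exfalso
    obtain ⟨x, hx, hx1⟩ : ∃ x ∈ N ⊓ K, x ≠ 1 := by
      by_contra hc
      push Not at hc
      exact hNK ((Subgroup.eq_bot_iff_forall _).mpr hc)
    have htop : M = ⊤ := by
      refine eq_top_iff.mpr fun g _ => ?_
      by_contra hg
      refine hx1 (h.ti g x hg hx.2 (h.mem_of_dvd (hNM (hN.conj_mem x hx.1 g)) ?_))
      rw [show orderOf (g * x * g⁻¹) = orderOf x from
        orderOf_injective (MulAut.conj g).toMonoidHom (MulAut.conj g).injective x]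
      exact Subgroup.orderOf_dvd_natCard K hx.2
    exact hns (Group.isSolvable_of_surjective
      (f := ((MulEquiv.subgroupCongr htop).trans Subgroup.topEquiv).toMonoidHom)
      (((MulEquiv.subgroupCongr htop).trans Subgroup.topEquiv).surjective))

theorem Sys.exists_second (hns : ¬ Group.IsSolvable G) (S : Sylow 2 G) {u : G} (hu : orderOf u = 2)
    (huS : u ∈ (S : Subgroup G)) : ∃ t ∈ (S : Subgroup G), orderOf t = 2 ∧ t ≠ u := by
  by_contra hc
  push Not at hc
  obtain ⟨N, hNn, hNodd, hN⟩ := Cfsg.Agent.S0215.result S u hu huS fun g hg => hc _ hg (by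
    rw [← hu]; exact orderOf_injective (MulAut.conj g).toMonoidHom (MulAut.conj g).injective u)
  have hN1 : N = ⊥ := h.radical hns N hNn (Cfsg.Agent.S0205.result hNodd)
  have hcen : u ∈ Subgroup.center G := Subgroup.mem_center_iff.mpr fun g => by
    have h1 := hN g
    rw [hN1, Subgroup.mem_bot, mul_inv_eq_one, mul_inv_eq_iff_eq_mul] at h1
    exact h1.symm
  have hn : (Subgroup.zpowers u).Normal :=
    ⟨fun y hy g => by
      have hyc : y ∈ Subgroup.center G := (Subgroup.zpowers_le.mpr hcen) hy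
      rw [Subgroup.mem_center_iff.mp hyc g, mul_inv_cancel_right]
      exact hy⟩
  have := h.radical hns _ hn (Group.isSolvable_of_comm fun a b => Subtype.ext (by
    obtain ⟨i, hi⟩ := a.2
    obtain ⟨j, hj⟩ := b.2
    rw [Subgroup.coe_mul, Subgroup.coe_mul, ← hi, ← hj]
    exact (Commute.zpow_zpow_self u i j).eq))
  rw [Subgroup.zpowers_eq_bot] at this
  rw [this, orderOf_one] at hu
  omega

theorem Sys.inverts {w : G} (hw : w * w = 1) (hwM : w ∈ M) (hwK : w ∉ K) :
    ∀ k ∈ K, w * k * w⁻¹ = k⁻¹ :=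
  SelfNorm.inverts_of_fpf hw (fun k hk => (Subgroup.mem_normalizer_iff.mp (h.nor hwM) k).mp hk)
    fun k hk e => h.fpf w hwM hwK k hk e.symm

theorem Sys.sylow_le (hns : ¬ Group.IsSolvable G) {S : Sylow 2 G}
    (hS : (S : Subgroup G) ≤ M) {z : G} (hz : orderOf z = 2) (hzS : z ∈ (S : Subgroup G))
    (hzc : ∀ s ∈ (S : Subgroup G), s * z = z * s) : z ∈ K ∧ (S : Subgroup G) ≤ K := by
  have hzK : z ∈ K := by
    by_contra hzK
    obtain ⟨t, htS, ht, htz⟩ := h.exists_second hns S hz hzS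
    have htK : t ∉ K := fun htK => hzK (h.cent htK (fun e => by simp [e] at ht) (hzc t htS).symm)
    have hz2 : z * z = 1 := by rw [← pow_two, ← hz, pow_orderOf_eq_one]
    have ht2 : t * t = 1 := by rw [← pow_two, ← ht, pow_orderOf_eq_one]
    obtain ⟨x, hx, hx1⟩ : ∃ x ∈ K, x ≠ 1 := by
      by_contra hc
      push Not at hc
      exact h.ne ((Subgroup.eq_bot_iff_forall _).mpr hc)
    have hcomm : (t * z) * x = x * (t * z) := by
      refine mul_inv_eq_iff_eq_mul.mp ?_
      calc t * z * x * (t * z)⁻¹ = t * (z * x * z⁻¹) * t⁻¹ := by group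
        _ = (t * x * t⁻¹)⁻¹ := by rw [h.inverts hz2 (hS hzS) hzK x hx]; group
        _ = x := by rw [h.inverts ht2 (hS htS) htK x hx, inv_inv]
    have htzK : t * z ∈ K := h.cent hx hx1 hcomm
    have hne : t * z ≠ 1 := fun e =>
      htz ((eq_inv_of_mul_eq_one_left e).trans (inv_eq_of_mul_eq_one_right hz2))
    refine hzK (h.cent htzK hne ?_)
    rw [← mul_assoc, ← hzc t htS]
  exact ⟨hzK, fun s hs => h.cent hzK (fun e => by simp [e] at hz) (hzc s hs)⟩

theorem Sys.ne_kernel (hns : ¬ Group.IsSolvable G) {S : Sylow 2 G} (hS : (S : Subgroup G) ≤ M) :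
    K ≠ M := by
  intro hKM
  haveI := h.msol
  haveI : Fact (Nat.Prime 2) := ⟨Nat.prime_two⟩
  obtain ⟨N, hNn, -, hcomp⟩ := Cfsg.Agent.CharInd.frobenius_kernel M
    fun g hg x hx hgx => h.ti g x hg (hKM ▸ hx) (hKM ▸ hgx)
  have hodd : Odd (Nat.card N) := by
    rw [← hcomp.index_eq_card]
    exact Nat.odd_iff.mpr (Nat.two_dvd_ne_zero.mp fun h2 =>
      S.not_dvd_index (h2.trans (Subgroup.index_dvd_of_le hS)))
  have hN1 : N = ⊥ := h.radical hns N hNn (Cfsg.Agent.S0205.result hodd)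
  have htop : M = ⊤ := by
    have h1 := hcomp.sup_eq_top
    rwa [hN1, bot_sup_eq] at h1
  exact hns (Group.isSolvable_of_surjective
    (f := ((MulEquiv.subgroupCongr htop).trans Subgroup.topEquiv).toMonoidHom)
    (((MulEquiv.subgroupCongr htop).trans Subgroup.topEquiv).surjective))

theorem Sys.nilpotent (hne : K ≠ M) : Group.IsNilpotent K := by
  haveI := h.msol
  haveI : Group.IsSolvable K :=
    Group.isSolvable_of_isSolvable_injective (f := Subgroup.inclusion h.le) (Subgroup.inclusion_injective h.le)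
  have hrel : (K.subgroupOf M).index ≠ 1 := by
    rw [Ne, Subgroup.index_eq_one, Subgroup.subgroupOf_eq_top]
    exact fun e => hne (le_antisymm h.le e)
  obtain ⟨p, hp, hpd⟩ := Nat.exists_prime_and_dvd hrel
  haveI : Fact p.Prime := ⟨hp⟩
  obtain ⟨⟨a, haM⟩, ha⟩ := exists_prime_orderOf_dvd_card' p
    (hpd.trans (K.subgroupOf M).index_dvd_card)
  rw [Subgroup.orderOf_mk] at ha
  have hpK : ¬ p ∣ Nat.card K := fun hd => hp.ne_one (Nat.eq_one_of_dvd_coprimes
    ((coprime_of_cc h.cc).coprime_dvd_right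
      ⟨M.index, (Subgroup.relIndex_mul_index h.le).symm⟩) hd hpd)
  have haK : a ∉ K := fun hK => hpK (ha ▸ Subgroup.orderOf_dvd_natCard K hK)
  set φ : MulAut K := Subgroup.normalizerMonoidHom K ⟨a, h.nor haM⟩ with hφ
  have hval : ∀ (i : ℕ) (x : K), (((φ ^ i) x : K) : G) = a ^ i * x * (a ^ i)⁻¹ := by
    intro i x
    rw [hφ, ← map_pow]
    rfl
  refine Solvable.isNilpotent_of_fpf_of_isSolvable hp (φ := φ) (fun x hx => Subtype.ext ?_) ?_
  · have e := hval 1 x
    rw [pow_one, pow_one, hx] at e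
    exact h.fpf a haM haK x x.2 (mul_inv_eq_iff_eq_mul.mp e.symm).symm
  · have hp1 : φ ^ p = 1 := DFunLike.ext _ _ fun x => Subtype.ext (by
      rw [hval, ← ha, pow_orderOf_eq_one]; simp)
    funext x
    have hiter : ∀ (i : ℕ) (y : K), (⇑φ)^[i] y = (φ ^ i) y := by
      intro i
      induction i with
      | zero => intro y; rfl
      | succ i ih => intro y; rw [Function.iterate_succ_apply, ih, pow_succ, MulAut.mul_apply]
    rw [hiter, hp1]
    rfl

theorem Sys.exists_dat (hns : ¬ Group.IsSolvable G) {S : Sylow 2 G} (hS : nS S ≤ M) :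
    ∃ z : G, Dat S z := by
  haveI : Fact (Nat.Prime 2) := ⟨Nat.prime_two⟩
  have hSM : (S : Subgroup G) ≤ M := Subgroup.le_normalizer.trans hS
  have h2 : 2 ∣ Nat.card (S : Subgroup G) := by
    refine S.dvd_card_of_dvd_card ?_
    by_contra h2
    exact hns (Cfsg.Agent.S0205.result (Nat.odd_iff.mpr (Nat.two_dvd_ne_zero.mp h2)))
  haveI : Nontrivial (S : Subgroup G) :=
    Finite.one_lt_card_iff_nontrivial.mp (Nat.le_of_dvd Nat.card_pos h2)
  haveI := S.isPGroup'.center_nontrivial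
  have h2c : 2 ∣ Nat.card (Subgroup.center (S : Subgroup G)) := by
    obtain ⟨k, hk⟩ := IsPGroup.iff_card.mp (S.isPGroup'.to_subgroup (Subgroup.center (S : Subgroup G)))
    rcases Nat.eq_zero_or_pos k with rfl | hk0
    · have := Finite.one_lt_card (α := Subgroup.center (S : Subgroup G))
      rw [hk] at this
      omega
    · exact hk ▸ dvd_pow_self 2 hk0.ne'
  obtain ⟨⟨⟨z, hzS⟩, hzc0⟩, hz⟩ := exists_prime_orderOf_dvd_card' 2 h2c
  rw [Subgroup.orderOf_mk, Subgroup.orderOf_mk] at hz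
  have hzc : ∀ s ∈ (S : Subgroup G), s * z = z * s := fun s hs =>
    congrArg Subtype.val (Subgroup.mem_center_iff.mp hzc0 ⟨s, hs⟩)
  have hz1 : z ≠ 1 := fun e => by simp [e] at hz
  have hz2 : z * z = 1 := by rw [← pow_two, ← hz, pow_orderOf_eq_one]
  obtain ⟨hzK, hSK⟩ := h.sylow_le hns hSM hz hzS hzc
  have hnil := h.nilpotent (h.ne_kernel hns hSM)
  have hMN : M ≤ nS S := fun m hm => SelfNorm.mem_normalizer_of_conj fun s hs => by
    refine el_mem_sylow S hnil (hSK.trans Subgroup.le_normalizer)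
      ((Subgroup.mem_normalizer_iff.mp (h.nor hm) s).mp (hSK hs)) (El.conj m ?_)
    obtain ⟨i, hi⟩ := S.isPGroup' ⟨s, hs⟩
    exact ⟨i, congrArg Subtype.val hi⟩
  have hM : nS S = M := le_antisymm hS hMN
  have hK : cz z = K := by
    refine le_antisymm (h.cc z hzK hz1) ?_
    refine (FitRank.le_closure_el K).trans ((Subgroup.closure_le _).mpr ?_)
    rintro a ⟨ha, s, hs, has⟩
    refine mem_cent.mpr ?_
    by_cases hs2 : s = 2
    · subst hs2
      exact hzc a (el_mem_sylow S hnil (hSK.trans Subgroup.le_normalizer) ha has)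
    · exact comm_of_el hnil hs Nat.prime_two hs2 ha hzK has ⟨1, by rw [pow_one, pow_two, hz2]⟩
  refine ⟨z, hns, h.radical hns, hzS, hz1, hz2, hzc, ?_, ?_, ?_, ?_, ?_, ?_⟩
  · rw [hM]; exact h.msol
  · rw [hK]; exact hnil
  · rw [hK, hM]; exact h.le
  · intro m hm c hc
    rw [hK] at hc ⊢
    exact (Subgroup.mem_normalizer_iff.mp (h.nor (hM ▸ hm)) c).mp hc
  · intro x hx hx1
    rw [hK] at hx ⊢
    exact h.cc x hx hx1
  · intro g x hx hx1 hgx
    rw [hK] at hx hgx
    rw [hM]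
    by_contra hg
    exact hx1 (h.ti g x hg hx hgx)

end Cfsg.Agent.FGS75.CCKer
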